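import Groth.Agent.Fano.K714.DimMv
import Groth.Agent.Lefpen.H702.Generic
import Mathlib.RingTheory.AlgebraicIndependent.TranscendenceBasis
import Mathlib.FieldTheory.IsAlgClosed.AlgebraicClosure

/-!
# The generic point of a prime ideal and its derivations (characteristic zero)
-/

set_option autoImplicit false
universe u

namespace K925.GenDer

open MvPolynomial Module Cardinal

variable {k : Type u} [Field k]

theorem exists_generic [CharZero k] {N d : ℕ} (P : Ideal (MvPolynomial (Fin N) k)) [P.IsPrime]
    (hd : P.height + d ≤ N) :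
    ∃ (Ω : Type u) (_ : Field Ω) (_ : Algebra k Ω) (_ : IsAlgClosed Ω) (x : Fin N → Ω),
      (∀ p : MvPolynomial (Fin N) k, aeval x p = 0 ↔ p ∈ P) ∧
      ∃ δ : Fin d → Derivation k Ω Ω, LinearIndependent Ω (fun i => fun j => δ i (x j)) := by
  classical
  obtain ⟨d', h, -, htr, hh, hsum⟩ := K714.DimMv.exists_nat_dim (k := k) P
  have hdd : d ≤ d' := by
    rw [hh] at hd
    have h1 : h + d ≤ N := by exact_mod_cast hd
    have h2 : Nat.card (Fin N) = N := by simp
    omega
  let A := MvPolynomial (Fin N) k ⧸ P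
  let K := FractionRing A
  let Ω := AlgebraicClosure K
  let y : Fin N → A := fun j => Ideal.Quotient.mk P (X j)
  let x : Fin N → Ω := fun j => algebraMap A Ω (y j)
  have hinj : Function.Injective (algebraMap A Ω) := by
    rw [IsScalarTower.algebraMap_eq A K Ω]
    exact (algebraMap K Ω).injective.comp (IsFractionRing.injective A K)
  have hae : ∀ p : MvPolynomial (Fin N) k, aeval x p = algebraMap A Ω (Ideal.Quotient.mk P p) := by
    intro p
    have h1 : (aeval x : MvPolynomial (Fin N) k →ₐ[k] Ω) =
        (IsScalarTower.toAlgHom k A Ω).comp (Ideal.Quotient.mkₐ k P) := by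
      ext j
      simp only [aeval_X, x, y]
      rfl
    rw [h1]
    rfl
  refine ⟨Ω, inferInstance, inferInstance, inferInstance, x, fun p => ?_, ?_⟩
  · rw [hae, map_eq_zero_iff _ hinj, Ideal.Quotient.eq_zero_iff_mem]
  have hay : ∀ p : MvPolynomial (Fin N) k, aeval y p = Ideal.Quotient.mk P p := by
    intro p
    have h1 : (aeval y : MvPolynomial (Fin N) k →ₐ[k] A) = Ideal.Quotient.mkₐ k P := by
      ext j
      simp only [aeval_X, y]
      rfl
    rw [h1]
    rfl
  have htop : Algebra.adjoin k (Set.range y) = ⊤ := by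
    rw [eq_top_iff]
    rintro a -
    obtain ⟨p, rfl⟩ := Ideal.Quotient.mk_surjective a
    rw [← hay, Algebra.adjoin_range_eq_range_aeval]
    exact ⟨p, rfl⟩
  have halg : Algebra.IsAlgebraic (Algebra.adjoin k (Set.range y)) A := by
    rw [htop]
    exact ⟨fun a => isAlgebraic_algebraMap (R := (⊤ : Subalgebra k A)) ⟨a, trivial⟩⟩
  have : FaithfulSMul k A := inferInstance
  obtain ⟨t, hts, ht⟩ := exists_isTranscendenceBasis_subset (R := k) (A := A) (Set.range y)
  have hcard : #t = (d' : Cardinal) := by
    rw [ht.cardinalMk_eq_trdeg, htr]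
  have hle : #(ULift.{u} (Fin d)) ≤ #t := by
    rw [hcard]
    simpa using hdd
  obtain ⟨e⟩ := Cardinal.le_def _ _ |>.1 hle
  have hchoose : ∀ i : Fin d, ∃ j : Fin N, y j = (e ⟨i⟩ : t) := fun i => hts (e ⟨i⟩).2
  choose c hc using hchoose
  have hind : AlgebraicIndependent k (fun i : Fin d => x (c i)) := by
    have h1 : AlgebraicIndependent k (fun i : Fin d => ((e ⟨i⟩ : t) : A)) :=
      ht.1.comp (fun i : Fin d => e ⟨i⟩) (fun a b hab => by
        have := e.injective hab
        simpa using this)
    have h2 := h1.map' (f := IsScalarTower.toAlgHom k A Ω) hinj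
    convert h2 using 1
    funext i
    change algebraMap A Ω (y (c i)) = algebraMap A Ω _
    rw [hc i]
  choose δ hδ using fun i : Fin d => Groth.Agent.Lefpen.H702.Generic.exists_derivation
    (fun i : Fin d => x (c i)) hind (Pi.single i 1)
  refine ⟨δ, ?_⟩
  rw [Fintype.linearIndependent_iff]
  intro g hg i
  have h1 := congrFun hg (c i)
  simp only [Finset.sum_apply, Pi.smul_apply, smul_eq_mul, Pi.zero_apply] at h1
  rw [Finset.sum_eq_single i] at h1
  · rw [hδ i i, Pi.single_eq_same, mul_one] at h1
    exact h1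
  · intro b _ hb
    rw [hδ b i, Pi.single_eq_of_ne (Ne.symm hb), mul_zero]
  · intro hi
    exact absurd (Finset.mem_univ i) hi

end K925.GenDer
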