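import Groth.Agent.Fano.K470.CurDef
import Groth.Agent.Fano.K714.Surf
import Groth.Agent.Fano.K289.UniqComp
import Mathlib.LinearAlgebra.Lagrange
import Mathlib.Algebra.Polynomial.Derivative

/-!
# The comb chart is nonsingular at combs with teeth of first type (S16526, node COMB)

* `exists_der`, `der_unique`: differentials of polynomial functions.
* `exists_of_indep`, `exists_curve`: linear algebra and interpolation.
* `hd_prodCurve`, `comb_mem`.
* `eqn`: the equations of the chart; `exists_dir`: surjectivity of the differential at a comb.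
* `comb_unique`, `comp_unique`.
-/

set_option autoImplicit false

universe u

namespace K925.Comb

open LefPen Groth.Agent.Lefpen.H703.ZOpen Module K714.Irr K714.Frames K470.Cur K656.Trilin K714.Surf Polynomial

variable {k : Type u} [Field k]

section Der

variable {V : Type u} [AddCommGroup V] [Module k V]

/-- polynomial functions have differentials -/
theorem exists_der {f : V → k} (hf : IsPolyFun k f) (y₀ : V) :
    ∃ D : V →ₗ[k] k, ∀ v, ∃ q : k[X], ∀ τ : k, f (y₀ + τ • v) = f y₀ + τ * D v + τ ^ 2 * q.eval τ := by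
  refine pf_induction (p := fun f => ∃ D : V →ₗ[k] k, ∀ v, ∃ q : k[X], ∀ τ : k,
    f (y₀ + τ • v) = f y₀ + τ * D v + τ ^ 2 * q.eval τ) hf ?_ ?_ ?_ ?_
  · intro l
    exact ⟨l, fun v => ⟨0, fun τ => by simp⟩⟩
  · intro c
    exact ⟨0, fun v => ⟨0, fun τ => by simp⟩⟩
  · rintro f g _ _ ⟨D, hD⟩ ⟨D', hD'⟩
    refine ⟨D + D', fun v => ?_⟩
    obtain ⟨q, hq⟩ := hD v
    obtain ⟨q', hq'⟩ := hD' v
    refine ⟨q + q', fun τ => ?_⟩
    beta_reduce
    rw [hq, hq', Polynomial.eval_add, LinearMap.add_apply]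
    ring
  · rintro f g _ _ ⟨D, hD⟩ ⟨D', hD'⟩
    refine ⟨f y₀ • D' + g y₀ • D, fun v => ?_⟩
    obtain ⟨q, hq⟩ := hD v
    obtain ⟨q', hq'⟩ := hD' v
    refine ⟨C (f y₀) * q' + C (g y₀) * q + C (D v * D' v) + X * (C (D v) * q' + C (D' v) * q) +
      X ^ 2 * q * q', fun τ => ?_⟩
    beta_reduce
    rw [hq, hq']
    simp only [LinearMap.add_apply, LinearMap.smul_apply, smul_eq_mul, eval_add, eval_mul, eval_C, eval_X, eval_pow]
    ring

/-- uniqueness of the directional derivative -/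
theorem der_unique [Infinite k] {F : k → k} {c d d' : k} {q q' : k[X]}
    (h : ∀ τ, F τ = c + τ * d + τ ^ 2 * q.eval τ) (h' : ∀ τ, F τ = c + τ * d' + τ ^ 2 * q'.eval τ) : d = d' := by
  have h1 : (X * C d + X ^ 2 * q : k[X]) = X * C d' + X ^ 2 * q' := Polynomial.funext fun τ => by
    have h2 := (h τ).symm.trans (h' τ)
    simp only [eval_add, eval_mul, eval_C, eval_X, eval_pow]
    linear_combination h2
  have h2 := congrArg (fun p : k[X] => p.coeff 1) h1
  simpa [coeff_X_pow_mul'] using h2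

end Der

section LinAlg

variable {V : Type u} [AddCommGroup V] [Module k V]

/-- independent functionals take arbitrary values -/
theorem exists_of_indep {n : ℕ} {l : Fin n → V →ₗ[k] k} (h : LinearIndependent k l)
    (z : Fin n → k) : ∃ v, ∀ i, l i v = z i := by
  have h1 : LinearMap.range (LinearMap.pi l) = ⊤ := by
    by_contra hne
    obtain ⟨φ, hφ, hφ0⟩ := Submodule.exists_le_ker_of_lt_top _ (lt_top_iff_ne_top.2 hne)
    apply hφ
    have h2 : ∀ w, φ w = ∑ i, w i * φ (Pi.single i 1) := by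
      intro w
      conv_lhs => rw [← Finset.univ_sum_single w, map_sum]
      refine Finset.sum_congr rfl fun i _ => ?_
      rw [show (Pi.single i (w i) : Fin n → k) = w i • Pi.single i 1 by
        rw [← Pi.single_smul, smul_eq_mul, mul_one], map_smul, smul_eq_mul]
    have h3 : ∑ i, φ (Pi.single i 1) • l i = 0 := by
      ext v
      have h4 := hφ0 ⟨v, rfl⟩
      rw [LinearMap.mem_ker, h2] at h4
      simpa [mul_comm] using h4
    have h4 := Fintype.linearIndependent_iff.1 h _ h3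
    refine LinearMap.ext fun w => ?_
    rw [h2]
    simp [h4]
  obtain ⟨v, hv⟩ := LinearMap.range_eq_top.1 h1 z
  exact ⟨v, fun i => congrFun hv i⟩

end LinAlg

section Poly

theorem eval_eq {e : ℕ} {P : k[X]} (hP : P.natDegree ≤ e) (s : k) :
    P.eval s = ∑ i : Fin (e + 1), s ^ (i : ℕ) * P.coeff i := by
  rw [Polynomial.eval_eq_sum_range' (Nat.lt_succ_of_le hP), Finset.sum_range]
  exact Finset.sum_congr rfl fun i _ => mul_comm _ _

theorem eval_derivative_eq {e : ℕ} {P : k[X]} (hP : P.natDegree ≤ e) (s : k) :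
    P.derivative.eval s = ∑ i : Fin (e + 1), (((i : ℕ).choose 1 : k) * s ^ ((i : ℕ) - 1)) * P.coeff i := by
  rw [Polynomial.derivative_eval, Polynomial.sum_over_range' _ _ _ (Nat.lt_succ_of_le hP), Finset.sum_range]
  · refine Finset.sum_congr rfl fun i _ => ?_
    rw [Nat.choose_one_right]
    ring
  · intro n
    simp

/-- `c_i = ∏_{j ≠ i} (t_i - t_j)` -/
noncomputable def cc {e : ℕ} (t : Fin e → k) (i : Fin e) : k := (Lagrange.nodal Finset.univ t).derivative.eval (t i)

theorem cc_ne {e : ℕ} {t : Fin e → k} (ht : Function.Injective t) (i : Fin e) : cc t i ≠ 0 := by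
  classical
  rw [cc, Lagrange.eval_nodal_derivative_eval_node_eq (Finset.mem_univ i), Lagrange.eval_nodal,
    Finset.prod_ne_zero_iff]
  intro j hj
  rw [sub_ne_zero]
  exact fun h => (Finset.ne_of_mem_erase hj) (ht h).symm

theorem natDegree_nodal {e : ℕ} (t : Fin e → k) : (Lagrange.nodal Finset.univ t).natDegree = e := by
  rw [Lagrange.natDegree_nodal, Finset.card_univ, Fintype.card_fin]

theorem coeff_nodal {e : ℕ} (t : Fin e → k) : (Lagrange.nodal Finset.univ t).coeff e = 1 := by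
  have h1 : (Lagrange.nodal Finset.univ t).Monic := Lagrange.nodal_monic
  have h2 := h1.coeff_natDegree
  rwa [natDegree_nodal] at h2

theorem prodCurve_apply {e : ℕ} (x : Fin 5 → k) (t : Fin e → k) (i : Fin (e + 1)) :
    (prodCurve x t : A k e) i = (Lagrange.nodal Finset.univ t).coeff (i : ℕ) • x := rfl

theorem prodCurve_last {e : ℕ} (x : Fin 5 → k) (t : Fin e → k) : (prodCurve x t : A k e) (Fin.last e) = x := by
  rw [prodCurve_apply, Fin.val_last, coeff_nodal, one_smul]

theorem ev_prodCurve_node {e : ℕ} (x : Fin 5 → k) (t : Fin e → k) (i : Fin e) :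
    ev (prodCurve x t) (t i) = 0 := by
  have h1 : ev (prodCurve x t) (t i) = (Lagrange.nodal Finset.univ t).eval (t i) • x := by
    rw [eval_eq (natDegree_nodal t).le, Finset.sum_smul]
    refine Finset.sum_congr rfl fun j _ => ?_
    rw [prodCurve_apply, smul_smul]
  rw [h1, Lagrange.eval_nodal_at_node (Finset.mem_univ i), zero_smul]

theorem hd_prodCurve_node {e : ℕ} (x : Fin 5 → k) (t : Fin e → k) (i : Fin e) :
    hd (prodCurve x t) 1 (t i) = cc t i • x := by
  rw [cc, eval_derivative_eq (natDegree_nodal t).le, Finset.sum_smul]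
  refine Finset.sum_congr rfl fun j _ => ?_
  rw [prodCurve_apply, smul_smul]

/-- interpolation -/
theorem exists_curve {e : ℕ} {t : Fin e → k} (ht : Function.Injective t) (w : Fin 5 → k) (z : Fin e → Fin 5 → k) :
    ∃ a : A k e, a (Fin.last e) = w ∧ ∀ i, ev a (t i) = z i := by
  classical
  let R : Fin 5 → k[X] := fun j => Lagrange.interpolate Finset.univ t (fun i => z i j)
  let Q : Fin 5 → k[X] := fun j => C (w j) * Lagrange.nodal Finset.univ t + R j
  have hR : ∀ j, (R j).degree < e := by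
    intro j
    have h1 := Lagrange.degree_interpolate_lt (r := fun i => z i j) (s := Finset.univ) (v := t) ht.injOn
    rwa [Finset.card_univ, Fintype.card_fin] at h1
  have hQ : ∀ j, (Q j).natDegree ≤ e := by
    intro j
    refine (natDegree_add_le _ _).trans (max_le ?_ ?_)
    · exact (natDegree_C_mul_le _ _).trans (natDegree_nodal t).le
    · exact natDegree_le_of_degree_le (hR j).le
  refine ⟨fun i j => (Q j).coeff i, ?_, ?_⟩
  · funext j
    have h1 : (R j).coeff e = 0 := coeff_eq_zero_of_degree_lt (hR j)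
    simp only [Q, Fin.val_last, coeff_add, coeff_C_mul, coeff_nodal, h1, mul_one, add_zero]
  · intro i
    funext j
    have h1 : ev (fun i j => (Q j).coeff i : A k e) (t i) j = (Q j).eval (t i) := by
      rw [eval_eq (hQ j), ev, Finset.sum_apply]
      rfl
    rw [h1]
    simp only [Q, eval_add, eval_mul, eval_C, Lagrange.eval_nodal_at_node (Finset.mem_univ i), mul_zero, zero_add, R]
    exact Lagrange.eval_interpolate_at_node _ ht.injOn (Finset.mem_univ i)

end Poly

section Lin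

theorem ev_add_smul {e : ℕ} (a b : A k e) (τ s : k) : ev (a + τ • b) s = ev a s + τ • ev b s := by
  simp only [ev, Pi.add_apply, Pi.smul_apply, smul_add, Finset.sum_add_distrib, Finset.smul_sum]
  congr 1
  exact Finset.sum_congr rfl fun i _ => smul_comm _ _ _

theorem hd_add_smul {e : ℕ} (a b : A k e) (j : ℕ) (τ s : k) : hd (a + τ • b) j s = hd a j s + τ • hd b j s := by
  simp only [hd, Pi.add_apply, Pi.smul_apply, smul_add, Finset.sum_add_distrib, Finset.smul_sum]
  congr 1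
  exact Finset.sum_congr rfl fun i _ => smul_comm _ _ _

theorem pm_Y2 {e : ℕ} : IsPolyMap k (fun y : Y k e => y.2) := isPolyMap_snd

theorem pm_Y22 {e : ℕ} : IsPolyMap k (fun y : Y k e => y.2.2) := pm_comp isPolyMap_snd pm_Y2

theorem pf_t {e : ℕ} (i : Fin e) : IsPolyFun k (fun y : Y k e => y.2.1 i) :=
  pm_comp (φ := fun z : (Fin e → k) × (Fin e → k) × (Fin e → Fin 5 → k) => z.1) isPolyMap_fst pm_Y2
    (LinearMap.proj i)

theorem pf_α {e : ℕ} (i : Fin e) : IsPolyFun k (fun y : Y k e => y.2.2.1 i) :=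
  pm_comp (φ := fun z : (Fin e → k) × (Fin e → Fin 5 → k) => z.1) isPolyMap_fst pm_Y22 (LinearMap.proj i)

theorem pm_p {e : ℕ} (i : Fin e) : IsPolyMap k (fun y : Y k e => y.2.2.2 i) :=
  pm_comp (isPolyMap_linear (LinearMap.proj i : (Fin e → Fin 5 → k) →ₗ[k] (Fin 5 → k)))
    (pm_comp (φ := fun z : (Fin e → k) × (Fin e → Fin 5 → k) => z.2) isPolyMap_snd pm_Y22)

theorem pm_a {e : ℕ} (i : Fin (e + 1)) : IsPolyMap k (fun y : Y k e => y.1 i) :=
  pm_comp (isPolyMap_linear (LinearMap.proj i : A k e →ₗ[k] (Fin 5 → k)))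
    (φ := fun a : A k e => a i) (ψ := fun y : Y k e => y.1) isPolyMap_fst

theorem pm_fsum {V W : Type u} [AddCommGroup V] [Module k V] [AddCommGroup W] [Module k W] {ι : Type*} (s : Finset ι)
    {φ : ι → V → W} (hφ : ∀ i ∈ s, IsPolyMap k (φ i)) : IsPolyMap k (fun v => ∑ i ∈ s, φ i v) := fun l => by
  simp only [map_sum]
  exact pf_sum _ fun i hi => hφ i hi l

theorem pm_ev {e : ℕ} (i : Fin e) : IsPolyMap k (fun y : Y k e => ev y.1 (y.2.1 i)) :=
  pm_fsum _ fun j _ => pm_smul (pf_pow (pf_t i) _) (pm_a j)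

theorem pm_hd {e : ℕ} (i : Fin e) (j : ℕ) : IsPolyMap k (fun y : Y k e => hd y.1 j (y.2.1 i)) :=
  pm_fsum _ fun l _ => pm_smul (pf_const_mul _ (pf_pow (pf_t i) _)) (pm_a l)

end Lin

variable {T : (Fin 5 → k) →ₗ[k] (Fin 5 → k) →ₗ[k] (Fin 5 → k) →ₗ[k] k}

/-- combs lie in the chart -/
theorem comb_mem (hT : IsSym3 T) {e : ℕ} {x : Fin 5 → k} {t : Fin e → k} {p : Fin e → Fin 5 → k} (hx : T x x x = 0)
    (hc : IsComb T x t p) : comb x t p ∈ Chart T e := by
  refine ⟨?_, fun i => ⟨?_, ?_, ?_, ?_⟩⟩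
  · change T ((prodCurve x t : A k e) (Fin.last e)) ((prodCurve x t : A k e) (Fin.last e))
      ((prodCurve x t : A k e) (Fin.last e)) = 0
    rw [prodCurve_last, hx]
  · change ev (prodCurve x t) (t i) = (0 : k) • p i
    rw [ev_prodCurve_node, zero_smul]
  · exact (hc.2 i).2.2.2.2
  · change T (p i) (p i) (hd (prodCurve x t) 1 (t i)) = 0
    rw [hd_prodCurve_node, map_smul, hT.rot' (p i) (p i) x, (hc.2 i).2.2.2.1, smul_zero]
  · change (0 : k) * _ + T (p i) (hd (prodCurve x t) 1 (t i)) (hd (prodCurve x t) 1 (t i)) = 0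
    rw [hd_prodCurve_node, map_smul, map_smul, LinearMap.smul_apply, hT.rot (p i) x x, (hc.2 i).2.2.1, smul_zero,
      smul_zero, zero_mul, add_zero]

variable (T) in
/-- the equations of the chart -/
def eqn (e : ℕ) : Option (Fin e × (Fin 5 ⊕ Fin 3)) → Y k e → k
  | none, y => T (y.1 (Fin.last e)) (y.1 (Fin.last e)) (y.1 (Fin.last e))
  | some (i, Sum.inl j), y => ev y.1 (y.2.1 i) j - y.2.2.1 i * y.2.2.2 i j
  | some (i, Sum.inr l), y => ![T (y.2.2.2 i) (y.2.2.2 i) (y.2.2.2 i),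
      T (y.2.2.2 i) (y.2.2.2 i) (hd y.1 1 (y.2.1 i)),
      y.2.2.1 i * T (y.2.2.2 i) (y.2.2.2 i) (hd y.1 2 (y.2.1 i)) +
        T (y.2.2.2 i) (hd y.1 1 (y.2.1 i)) (hd y.1 1 (y.2.1 i))] l

theorem mem_chart_iff {e : ℕ} {y : Y k e} : y ∈ Chart T e ↔ ∀ i, eqn T e i y = 0 := by
  constructor
  · rintro ⟨h0, h⟩ (_ | ⟨i, j | l⟩)
    · exact h0
    · have h1 := congrFun (h i).1 j
      change ev y.1 (y.2.1 i) j - y.2.2.1 i * y.2.2.2 i j = 0
      rw [h1, Pi.smul_apply, smul_eq_mul, sub_self]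
    · obtain ⟨-, h1, h2, h3⟩ := h i
      fin_cases l
      · exact h1
      · exact h2
      · exact h3
  · intro h
    refine ⟨h none, fun i => ⟨?_, h (some (i, Sum.inr 0)), h (some (i, Sum.inr 1)), h (some (i, Sum.inr 2))⟩⟩
    funext j
    rw [Pi.smul_apply, smul_eq_mul]
    exact sub_eq_zero.1 (h (some (i, Sum.inl j)))

theorem pf_eqn (e : ℕ) (i : Option (Fin e × (Fin 5 ⊕ Fin 3))) : IsPolyFun k (eqn T e i) := by
  rcases i with _ | ⟨i, j | l⟩
  · exact K714.TypeConst.pf_tri T (pm_a _) (pm_a _) (pm_a _)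
  · exact pf_sub (pm_ev i (LinearMap.proj j)) (pf_mul (pf_α i) (pm_p i (LinearMap.proj j)))
  · fin_cases l
    · exact K714.TypeConst.pf_tri T (pm_p i) (pm_p i) (pm_p i)
    · exact K714.TypeConst.pf_tri T (pm_p i) (pm_p i) (pm_hd i 1)
    · exact pf_add (pf_mul (pf_α i) (K714.TypeConst.pf_tri T (pm_p i) (pm_p i) (pm_hd i 2)))
        (K714.TypeConst.pf_tri T (pm_p i) (pm_hd i 1) (pm_hd i 1))

/-- surjectivity of the differential -/
theorem exists_dir [CharZero k] (hT : IsSym3 T) (hsm : SmoothOn T ⊤) {e : ℕ}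
    {x : Fin 5 → k} (hx0 : x ≠ 0) (hx : T x x x = 0) {t : Fin e → k} {p : Fin e → Fin 5 → k} (hc : IsComb T x t p)
    (h1 : ∀ i, First T x (p i)) (z : Option (Fin e × (Fin 5 ⊕ Fin 3)) → k) :
    ∃ v : Y k e, ∀ i, ∃ q : k[X], ∀ τ : k, eqn T e i (comb x t p + τ • v) = 0 + τ * z i + τ ^ 2 * q.eval τ := by
  have h3 : (3 : k) ≠ 0 := by norm_num
  have h2 : (2 : k) ≠ 0 := two_ne_zero
  obtain ⟨w₀, -, hw₀⟩ := hsm x trivial hx0 hx
  obtain ⟨da, hda0, hda⟩ := exists_curve hc.1 ((z none / (3 * T x x w₀)) • w₀) (fun i j => z (some (i, Sum.inl j)))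
  have hw : 3 * T x x (da (Fin.last e)) = z none := by
    rw [hda0, map_smul, smul_eq_mul]
    field_simp
  have hp : ∀ i, ∃ v : Fin 5 → k, T x x v = (z (some (i, Sum.inr 2)) - 2 * cc t i * T (p i) x (hd da 1 (t i))) /
      (cc t i ^ 2) ∧ T x (p i) v = (z (some (i, Sum.inr 1)) - T (p i) (p i) (hd da 1 (t i))) / (2 * cc t i) ∧
      T (p i) (p i) v = z (some (i, Sum.inr 0)) / 3 := by
    intro i
    obtain ⟨v, hv⟩ := exists_of_indep (h1 i) ![(z (some (i, Sum.inr 2)) - 2 * cc t i * T (p i) x (hd da 1 (t i))) /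
      (cc t i ^ 2), (z (some (i, Sum.inr 1)) - T (p i) (p i) (hd da 1 (t i))) / (2 * cc t i),
      z (some (i, Sum.inr 0)) / 3]
    exact ⟨v, hv 0, hv 1, hv 2⟩
  choose dp hp1 hp2 hp3 using hp
  refine ⟨(da, 0, 0, dp), ?_⟩
  have hy : ∀ τ : k, comb x t p + τ • ((da, 0, 0, dp) : Y k e) =
      (prodCurve x t + τ • da, t, 0, fun i => p i + τ • dp i) := by
    intro τ
    refine Prod.ext rfl (Prod.ext ?_ (Prod.ext ?_ rfl))
    · change t + τ • (0 : Fin e → k) = t
      rw [smul_zero, add_zero]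
    · change (0 : Fin e → k) + τ • (0 : Fin e → k) = 0
      rw [smul_zero, add_zero]
  rintro (_ | ⟨i, j | l⟩)
  · refine ⟨C (3 * T x (da (Fin.last e)) (da (Fin.last e))) + X * C (T (da (Fin.last e)) (da (Fin.last e))
      (da (Fin.last e))), fun τ => ?_⟩
    rw [hy]
    change T ((prodCurve x t + τ • da : A k e) (Fin.last e)) ((prodCurve x t + τ • da : A k e) (Fin.last e))
      ((prodCurve x t + τ • da : A k e) (Fin.last e)) = _
    rw [Pi.add_apply, Pi.smul_apply, prodCurve_last, hT.cube_add_smul, hx, ← hw]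
    simp only [eval_add, eval_mul, eval_C, eval_X]
    ring
  · refine ⟨0, fun τ => ?_⟩
    rw [hy]
    change ev (prodCurve x t + τ • da) (t i) j - (0 : k) * _ = _
    rw [ev_add_smul, ev_prodCurve_node, hda]
    simp
  · have hcc := cc_ne hc.1 i
    fin_cases l
    · refine ⟨C (3 * T (p i) (dp i) (dp i)) + X * C (T (dp i) (dp i) (dp i)), fun τ => ?_⟩
      rw [hy]
      change T (p i + τ • dp i) (p i + τ • dp i) (p i + τ • dp i) = 0 + τ * z (some (i, Sum.inr 0)) + _
      rw [hT.cube_add_smul, (hc.2 i).2.2.2.2, hp3]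
      simp only [eval_add, eval_mul, eval_C, eval_X]
      field_simp
      ring
    · refine ⟨C (cc t i * T (dp i) (dp i) x + 2 * T (p i) (dp i) (hd da 1 (t i))) +
        X * C (T (dp i) (dp i) (hd da 1 (t i))), fun τ => ?_⟩
      rw [hy]
      change T (p i + τ • dp i) (p i + τ • dp i) (hd (prodCurve x t + τ • da) 1 (t i)) =
        0 + τ * z (some (i, Sum.inr 1)) + _
      rw [hd_add_smul, hd_prodCurve_node, hT.sq_add_smul]
      have e1 : T (p i) (p i) x = 0 := by rw [hT.rot' (p i) (p i) x]; exact (hc.2 i).2.2.2.1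
      have e2 : T (p i) (dp i) x = (z (some (i, Sum.inr 1)) - T (p i) (p i) (hd da 1 (t i))) / (2 * cc t i) := by
        rw [hT.rot' (p i) (dp i) x]; exact hp2 i
      simp only [map_add, map_smul, smul_eq_mul, e1, e2, eval_add, eval_mul, eval_C, eval_X]
      field_simp
      ring
    · refine ⟨C (T (p i) (hd da 1 (t i)) (hd da 1 (t i)) + 2 * cc t i * T (dp i) x (hd da 1 (t i))) +
        X * C (T (dp i) (hd da 1 (t i)) (hd da 1 (t i))), fun τ => ?_⟩
      rw [hy]
      change (0 : k) * _ + T (p i + τ • dp i) (hd (prodCurve x t + τ • da) 1 (t i))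
        (hd (prodCurve x t + τ • da) 1 (t i)) = 0 + τ * z (some (i, Sum.inr 2)) + _
      rw [zero_mul, hd_add_smul, hd_prodCurve_node]
      have e1 : T (p i) x x = 0 := by rw [hT.rot (p i) x x]; exact (hc.2 i).2.2.1
      have e2 : T (dp i) x x = (z (some (i, Sum.inr 2)) - 2 * cc t i * T (p i) x (hd da 1 (t i))) /
          (cc t i ^ 2) := by
        rw [hT.rot (dp i) x x]; exact hp1 i
      have e3 : ∀ v, T v (hd da 1 (t i)) x = T v x (hd da 1 (t i)) := fun v => hT.s23 _ _ _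
      simp only [map_add, map_smul, smul_eq_mul, LinearMap.add_apply, LinearMap.smul_apply, e1, e2, e3, eval_add,
        eval_mul, eval_C, eval_X]
      field_simp
      ring

/-- there is a largest irreducible subset of the chart among those degenerating to a comb with teeth of first type -/
theorem comb_unique [IsAlgClosed k] [CharZero k] (hT : IsSym3 T) (hsm : SmoothOn T ⊤) {e : ℕ} {x : Fin 5 → k}
    (hx0 : x ≠ 0) (hx : T x x x = 0) {t : Fin e → k} {p : Fin e → Fin 5 → k} (hc : IsComb T x t p)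
    (h1 : ∀ i, First T x (p i)) :
    ∃ C : Set (Y k e), C ⊆ Chart T e ∧ Irr k C ∧
      ∀ S : Set (Y k e), S ⊆ Chart T e → Irr k S → comb x t p ∈ Cl k S → S ⊆ C := by
  have hch : Chart T e = {y | ∀ i, eqn T e i y = 0} := Set.ext fun y => mem_chart_iff
  have h0 : ∀ i, eqn T e i (comb x t p) = 0 := mem_chart_iff.1 (comb_mem hT hx hc)
  choose D hD using fun i => exists_der (pf_eqn (T := T) e i) (comb x t p)
  have hD' : ∀ i v, ∃ q : k[X], ∀ τ : k, eqn T e i (comb x t p + τ • v) = τ * LinearMap.pi D v i + τ ^ 2 * q.eval τ := by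
    intro i v
    obtain ⟨q, hq⟩ := hD i v
    refine ⟨q, fun τ => ?_⟩
    rw [hq, h0, zero_add, LinearMap.pi_apply]
  rw [hch]
  refine K289.UniqComp.unique_comp (pf_eqn e) h0 (LinearMap.pi D) ?_ hD'
  intro z
  obtain ⟨v, hv⟩ := exists_dir hT hsm hx0 hx hc h1 z
  refine ⟨v, ?_⟩
  funext i
  obtain ⟨q, hq⟩ := hD i v
  obtain ⟨q', hq'⟩ := hv i
  rw [h0] at hq
  rw [LinearMap.pi_apply]
  exact der_unique hq hq'

/-- components degenerating to connected combs agree (given the lemmas of node CHART) -/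
theorem comp_unique_of [IsAlgClosed k] [CharZero k] (hT : IsSym3 T) (hsm : SmoothOn T ⊤) {e : ℕ}
    (irr_ov : ∀ {W : Set (A k e)} (_ : Irr k W), Irr k (Ov W))
    (ov_subset : ∀ {W : Set (A k e)} (_ : W ⊆ Z T e), Ov W ⊆ Chart T e)
    (mem_Z_of_chart : ∀ {y : Y k e} (_ : y ∈ Chart T e) (_ : Function.Injective y.2.1), y.1 ∈ Z T e)
    {x : Fin 5 → k} (hx : GoodPt T x) {t t' : Fin e → k} {p p' : Fin e → Fin 5 → k} (hc : IsComb T x t p)
    (hc' : IsComb T x t' p')
    {W W' : Set (A k e)} (hW : IsComp k (Z T e) W) (hW' : IsComp k (Z T e) W')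
    (h : comb x t p ∈ Cl k (Ov W)) (h' : comb x t' p' ∈ Cl k (Ov W')) {S : Set (Y k e)} (hS : S ⊆ Chart T e)
    (hirr : Irr k S) (h1 : comb x t p ∈ Cl k S) (h2 : comb x t' p' ∈ Cl k S) : W = W' := by
  obtain ⟨C, hC, hCi, hCm⟩ := comb_unique hT hsm hx.1 hx.2.1 hc fun i => (hx.2.2.1 _ (hc.2 i)).1
  obtain ⟨C', hC', hCi', hCm'⟩ := comb_unique hT hsm hx.1 hx.2.1 hc' fun i => (hx.2.2.1 _ (hc'.2 i)).1
  have hmono : ∀ {X X' : Set (Y k e)}, X ⊆ X' → Cl k X ⊆ Cl k X' := fun h v hv O hO hvO =>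
    (hv O hO hvO).mono fun _ hy => ⟨h hy.1, hy.2⟩
  have e1 : C ⊆ C' := hCm' C hC hCi (hmono (hCm S hS hirr h1) h2)
  have e2 : C' ⊆ C := hCm C' hC' hCi' (hmono (hCm' S hS hirr h2) h1)
  have hWC : Ov W ⊆ C := hCm _ (ov_subset hW.1) (irr_ov hW.2.1) h
  have hWC' : Ov W' ⊆ C := (hCm' _ (ov_subset hW'.1) (irr_ov hW'.2.1) h').trans e2
  -- the open part of `C`
  have hO : IsZOpen k {y : Y k e | Function.Injective y.2.1} := by
    have h3 : {y : Y k e | Function.Injective y.2.1} =
        {y : Y k e | (∏ i, ∏ j, if i = j then 1 else y.2.1 i - y.2.1 j) ≠ 0} := by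
      ext y
      simp only [Set.mem_ofPred_eq, Finset.prod_ne_zero_iff, Finset.mem_univ, true_implies]
      constructor
      · intro hy i j
        split_ifs with hij
        · exact one_ne_zero
        · exact sub_ne_zero.2 fun h => hij (hy h)
      · intro hy i j hij
        by_contra hne
        have := hy i j
        rw [if_neg hne, hij, sub_self] at this
        exact this rfl
    rw [h3]
    refine isZOpen_basic (pf_prod _ fun i _ => pf_prod _ fun j _ => ?_)
    by_cases hij : i = j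
    · simp only [hij, if_true]
      exact isPolyFun_one
    · simp only [hij, if_false]
      exact pf_sub (pf_t i) (pf_t j)
  have hPn : (C ∩ {y : Y k e | Function.Injective y.2.1}).Nonempty := by
    obtain ⟨y, hy⟩ := (irr_ov hW.2.1).1
    exact ⟨y, hWC hy, hy.2.1⟩
  have hP : Irr k ((fun y : Y k e => y.1) '' (C ∩ {y : Y k e | Function.Injective y.2.1})) :=
    (hCi.inter_open hO hPn).image isPolyMap_fst
  have hPZ : (fun y : Y k e => y.1) '' (C ∩ {y : Y k e | Function.Injective y.2.1}) ⊆ Z T e := by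
    rintro _ ⟨y, hy, rfl⟩
    exact mem_Z_of_chart (hC hy.1) hy.2
  have hsub : ∀ {X : Set (A k e)}, Ov X ⊆ C →
      X ⊆ (fun y : Y k e => y.1) '' (C ∩ {y : Y k e | Function.Injective y.2.1}) := by
    intro X hX a ha
    refine ⟨(a, t, 1, fun i => ev a (t i)), ⟨hX ⟨ha, hc.1, fun i => ⟨one_ne_zero, ?_⟩⟩, hc.1⟩, rfl⟩
    change ev a (t i) = (1 : k) • ev a (t i)
    rw [one_smul]
  rw [← hW.2.2 _ hPZ hP (hsub hWC), hW'.2.2 _ hPZ hP (hsub hWC')]

end K925.Comb
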