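import Groth.Agent.Fano.K745.StDef

/-!
# Morphisms to `VG G` are regular pairs `(c, φ)`

* `gm u`: the ring homomorphism of a morphism `u : T ⟶ Spec R`; `sm α`: the morphism of a ring homomorphism;
* `cAt_comp`, `φAt_comp`, `reg_cAt`, `existsUnique_toVG`.
-/

set_option autoImplicit false

universe u

open CategoryTheory CategoryTheory.Limits AlgebraicGeometry

namespace K925.StV

open K188.LineDef K745.ConDef K745.StDef W4swstmapratcurves

section Gen

variable {T T' : Scheme.{u}} {R R' : Type u} [CommRing R] [CommRing R']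

/-- The ring homomorphism of a morphism to an affine scheme. -/
noncomputable def gm (u : T ⟶ Spec (CommRingCat.of R)) : R →+* Γ(T, ⊤) :=
  u.appTop.hom.comp (Scheme.ΓSpecIso (CommRingCat.of R)).inv.hom

/-- The morphism to an affine scheme of a ring homomorphism. -/
noncomputable def sm (α : R →+* Γ(T, ⊤)) : T ⟶ Spec (CommRingCat.of R) :=
  T.toSpecΓ ≫ Spec.map (CommRingCat.ofHom α)

theorem gm_apply (u : T ⟶ Spec (CommRingCat.of R)) (r : R) :
    gm u r = u.appTop ((Scheme.ΓSpecIso (CommRingCat.of R)).inv r) := rfl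

theorem gm_comp (t : T' ⟶ T) (u : T ⟶ Spec (CommRingCat.of R)) : gm (t ≫ u) = t.appTop.hom.comp (gm u) := by
  ext r
  simp only [gm, RingHom.comp_apply]
  rw [Scheme.Hom.comp_appTop]
  rfl

theorem gm_comp_map (u : T ⟶ Spec (CommRingCat.of R)) (β : R' →+* R) :
    gm (u ≫ Spec.map (CommRingCat.ofHom β)) = (gm u).comp β := by
  ext r
  have h1 := ConcreteCategory.congr_hom (Scheme.ΓSpecIso_inv_naturality (CommRingCat.ofHom β)) r
  simp only [gm, RingHom.comp_apply]
  rw [Scheme.Hom.comp_appTop]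
  exact congrArg (fun z => u.appTop z) h1.symm

theorem gm_sm (α : R →+* Γ(T, ⊤)) : gm (sm α) = α := by
  rw [sm, gm_comp_map]
  ext r
  simp only [gm, RingHom.comp_apply]
  rw [Scheme.toSpecΓ_appTop]
  have h1 := ConcreteCategory.congr_hom (Scheme.ΓSpecIso Γ(T, ⊤)).inv_hom_id (α r)
  exact h1

theorem ext_gm {u v : T ⟶ Spec (CommRingCat.of R)} (h : gm u = gm v) : u = v := by
  refine ext_of_isAffine ?_
  rw [← cancel_epi (Scheme.ΓSpecIso (CommRingCat.of R)).inv]
  ext r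
  exact RingHom.congr_fun h r

theorem preimage_basicOpen (u : T ⟶ Spec (CommRingCat.of R)) (r : R) :
    u ⁻¹ᵁ (PrimeSpectrum.basicOpen r : (Spec (CommRingCat.of R)).Opens) = T.basicOpen (gm u r) := by
  rw [← basicOpen_eq_of_affine (R := CommRingCat.of R) r, Scheme.preimage_basicOpen_top]
  rfl

end Gen

section Nat

variable {A B : Type u} [CommRing A] [CommRing B] {n : ℕ}

theorem map_disc3 (α : A →+* B) (c : Fin 5 → A) (i : Fin 3) :
    α (disc3 c i) = disc3 (fun j => α (c j)) i := by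
  have h4 : α 4 = 4 := map_ofNat α 4
  have h2 : α 2 = 2 := map_ofNat α 2
  fin_cases i <;> simp [disc3, h2, h4]

theorem map_det3 (α : A →+* B) (φ : Fin (n + 1) → Fin 3 → A) (l : Fin 3 → Fin (n + 1)) :
    α (det3 φ l) = det3 (fun a j => α (φ a j)) l := by
  rw [det3, det3, RingHom.map_det]
  rfl

theorem map_bpf (α : A →+* B) (c : Fin 5 → A) (φ : Fin (n + 1) → Fin 3 → A)
    (i : (Fin 3 → Fin (n + 1)) ⊕ (Fin (n + 1) × Fin (n + 1))) :
    α (bpf c φ i) = bpf (fun j => α (c j)) (fun a j => α (φ a j)) i := by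
  rcases i with l | ab
  · exact map_det3 α φ l
  · simp only [bpf]
    rw [← map_qf α c, MvPolynomial.eval_map, ← MvPolynomial.eval₂_id, MvPolynomial.eval₂_comp_left]
    congr 1
    funext j
    fin_cases j <;> simp [cross_apply]

theorem map_regPoly (α : A →+* B) (c : Fin 5 → A) (φ : Fin (n + 1) → Fin 3 → A)
    (i : Fin 3 × ((Fin 3 → Fin (n + 1)) ⊕ (Fin (n + 1) × Fin (n + 1)))) :
    α (regPoly c φ i) = regPoly (fun j => α (c j)) (fun a j => α (φ a j)) i := by
  rw [regPoly, map_mul, map_disc3, map_bpf]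
  rfl

end Nat

variable {k : Type u} [Field k] {n d : ℕ} {G : LefPen.Form n k d}

theorem cAt_eq {T : Scheme.{u}} (u : T ⟶ VG G.1) (i : Fin 5) :
    cAt u i = gm (u ≫ (VO G.1).ι) (mkR G.1 (cU n k i)) := rfl

theorem φAt_eq {T : Scheme.{u}} (u : T ⟶ VG G.1) (l : Fin (n + 1)) (i : Fin 3) :
    φAt u l i = gm (u ≫ (VO G.1).ι) (mkR G.1 (φU n k l i)) := rfl

theorem cAt_comp {T T' : Scheme.{u}} (t : T' ⟶ T) (u : T ⟶ VG G.1) (i : Fin 5) : cAt (t ≫ u) i = pb t (cAt u i) := by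
  rw [cAt_eq, cAt_eq, Category.assoc, gm_comp]
  rfl

theorem φAt_comp {T T' : Scheme.{u}} (t : T' ⟶ T) (u : T ⟶ VG G.1) (l : Fin (n + 1)) (i : Fin 3) :
    φAt (t ≫ u) l i = pb t (φAt u l i) := by
  rw [φAt_eq, φAt_eq, Category.assoc, gm_comp]
  rfl

theorem preimage_VO {T : Scheme.{u}} (v : T ⟶ Spec (CommRingCat.of (RC G.1))) :
    v ⁻¹ᵁ (VO G.1) = ⨆ i, T.basicOpen (regPoly (fun j => gm v (mkR G.1 (cU n k j)))
      (fun l j => gm v (mkR G.1 (φU n k l j))) i) := by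
  rw [VO, Scheme.Hom.preimage_iSup]
  refine iSup_congr fun i => ?_
  rw [preimage_basicOpen, map_regPoly, map_regPoly]

theorem gm_algebraMap {T : Over (Spec (CommRingCat.of k))} (v : T.left ⟶ Spec (CommRingCat.of (RC G.1)))
    (hv : v ≫ Spec.map (CommRingCat.ofHom (algebraMap k (RC G.1))) = T.hom) :
    (gm v).comp (algebraMap k (RC G.1)) = kmap T.hom := by
  rw [← gm_comp_map, hv]
  rfl

/-- The hypothesis on divisibility (node H16). -/
def DvdRC (n : ℕ) (k : Type u) [CommRing k] : Prop :=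
  ∀ {B : Type u} [CommRing B] (G : MvPolynomial (Fin (n + 1)) k) (α : RC G →+* B),
    qf (fun i => α (mkR G (cU n k i))) ∣
      subF (α.comp (algebraMap k (RC G))) G (fun l i => α (mkR G (φU n k l i)))

/-- The universal property of `RC G` (node H16). -/
def UnivRC (n : ℕ) (k : Type u) [CommRing k] : Prop :=
  ∀ {B : Type u} [CommRing B] (ρ : k →+* B) (G : MvPolynomial (Fin (n + 1)) k)
    (c : Fin 5 → B) (φ : Fin (n + 1) → Fin 3 → B), qf c ∣ subF ρ G φ →
    ∃! α : RC G →+* B, α.comp (algebraMap k (RC G)) = ρ ∧ (∀ i, α (mkR G (cU n k i)) = c i) ∧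
      ∀ l i, α (mkR G (φU n k l i)) = φ l i

/-- Node V1. -/
theorem reg_cAt (H : DvdRC n k) (T : Over (Spec (CommRingCat.of k))) (u : T ⟶ VGk G.1) :
    Reg (cAt u.left) (φAt u.left) ∧ qf (cAt u.left) ∣ subF (kmap T.hom) G.1 (φAt u.left) := by
  constructor
  · have h1 := preimage_VO (G := G) (u.left ≫ (VO G.1).ι)
    have h2 : (u.left ≫ (VO G.1).ι) ⁻¹ᵁ (VO G.1) = ⊤ := by
      rw [Scheme.Hom.comp_preimage, Scheme.Opens.ι_preimage_self]
      rfl
    rw [h2] at h1
    exact h1.symm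
  · have h1 : (gm (u.left ≫ (VO G.1).ι)).comp (algebraMap k (RC G.1)) = kmap T.hom :=
      gm_algebraMap _ (by
        rw [Category.assoc]
        exact Over.w u)
    have h2 := H G.1 (gm (u.left ≫ (VO G.1).ι))
    rw [h1] at h2
    exact h2

/-- Node V2. -/
theorem existsUnique_toVG (H : UnivRC n k) (T : Over (Spec (CommRingCat.of k))) (c : Fin 5 → Γ(T.left, ⊤))
    (φ : Fin (n + 1) → Fin 3 → Γ(T.left, ⊤)) (hr : Reg c φ) (hd : qf c ∣ subF (kmap T.hom) G.1 φ) :
    ∃! u : T ⟶ VGk G.1, (∀ i, cAt u.left i = c i) ∧ ∀ l i, φAt u.left l i = φ l i := by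
  obtain ⟨α, ⟨h1, h2, h3⟩, huniq⟩ := H (kmap T.hom) G.1 c φ hd
  have hc : (fun j => gm (sm α) (mkR G.1 (cU n k j))) = c := by
    funext j
    rw [gm_sm]
    exact h2 j
  have hφ : (fun l j => gm (sm α) (mkR G.1 (φU n k l j))) = φ := by
    funext l j
    rw [gm_sm]
    exact h3 l j
  have hpre : (sm α) ⁻¹ᵁ (VO G.1) = ⊤ := by
    rw [preimage_VO, hc, hφ]
    exact hr
  have hrange : Set.range (sm α) ⊆ Set.range (VO G.1).ι := by
    rw [Scheme.Opens.range_ι]
    rintro _ ⟨t, rfl⟩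
    have : t ∈ (sm α) ⁻¹ᵁ (VO G.1) := by
      rw [hpre]
      trivial
    exact this
  have hlift : IsOpenImmersion.lift (VO G.1).ι (sm α) hrange ≫ (VO G.1).ι = sm α := IsOpenImmersion.lift_fac _ _ _
  have hw : IsOpenImmersion.lift (VO G.1).ι (sm α) hrange ≫ (VGk G.1).hom = T.hom := by
    change _ ≫ ((VO G.1).ι ≫ Spec.map (CommRingCat.ofHom (algebraMap k (RC G.1)))) = _
    rw [← Category.assoc, hlift]
    refine ext_gm ?_
    rw [gm_comp_map, gm_sm, h1]
    rfl
  refine ⟨Over.homMk (IsOpenImmersion.lift (VO G.1).ι (sm α) hrange) hw, ⟨fun i => ?_, fun l i => ?_⟩, ?_⟩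
  · rw [cAt_eq]
    change gm (IsOpenImmersion.lift (VO G.1).ι (sm α) hrange ≫ (VO G.1).ι) _ = _
    rw [hlift, gm_sm]
    exact h2 i
  · rw [φAt_eq]
    change gm (IsOpenImmersion.lift (VO G.1).ι (sm α) hrange ≫ (VO G.1).ι) _ = _
    rw [hlift, gm_sm]
    exact h3 l i
  · rintro v ⟨hv1, hv2⟩
    have h4 : gm (v.left ≫ (VO G.1).ι) = α := huniq _ ⟨gm_algebraMap _ (by
      rw [Category.assoc]
      exact Over.w v), hv1, hv2⟩
    refine Over.OverMorphism.ext ?_
    rw [← cancel_mono (VO G.1).ι]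
    refine Eq.trans ?_ hlift.symm
    refine ext_gm ?_
    rw [h4, gm_sm]

end K925.StV
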